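import Cfsg.Agent.Lib.PrimeBlock.Artin.Degree
import Cfsg.Agent.Lib.PrimeBlock.Brauer.CubePerfect
import Cfsg.Agent.Lib.Classical.GL2
import Cfsg.Agent.Lib.Cores.Basic
import Cfsg.Agent.S1227

/-!
# Perfect groups with Sylow subgroups of prime order and no `p'`-core
-/

set_option autoImplicit false
set_option linter.style.haveILetI false
set_option linter.unusedSectionVars false

namespace Cfsg.Agent.PrimeBlock.Artin

open Cfsg.Agent.SmallSimple Cfsg.Agent.PrimeBlock.Brauer Subgroup

universe u

variable {Q : Type u} [Group Q] [Finite Q] {p : ℕ} [Fact p.Prime]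

/-- In a perfect group no Sylow subgroup of prime order is central in its normalizer. -/
theorem not_normalizer_le_centralizer (hperf : commutator Q = ⊤) (P : Sylow p Q)
    (hP : Nat.card (P : Subgroup Q) = p) :
    ¬ normalizer ((P : Subgroup Q) : Set Q) ≤ centralizer ((P : Subgroup Q) : Set Q) := by
  intro h
  haveI : IsCyclic (P : Subgroup Q) := isCyclic_of_prime_card hP
  letI := IsCyclic.commGroup (α := (P : Subgroup Q))
  have hle : commutator Q ≤ (MonoidHom.transferSylow P h).ker :=
    Abelianization.commutator_subset_ker _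
  rw [hperf, top_le_iff] at hle
  have hd := MonoidHom.not_dvd_card_ker_transferSylow P h
  rw [hle, card_top] at hd
  exact hd (hP ▸ card_subgroup_dvd_card (P : Subgroup Q))

/-- An element of order prime to `p` commuting with a regular element of order `p` fixes the points moved by it. -/
theorem fix_of_regular {Ω : Type*} [MulAction Q Ω] [Finite Ω] {x k : Q} (hx : x ^ p = 1)
    (hk : ¬ p ∣ orderOf k) (hc : Commute k x) (hS : Nat.card {a : Ω | x • a ≠ a} = p) {a : Ω}
    (ha : x • a ≠ a) : k • a = a := by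
  classical
  have hp : p.Prime := Fact.out
  have hinj : ∀ i : ℕ, x ^ i • a = a → p ∣ i := by
    intro i hi
    by_contra hd
    refine ha ?_
    obtain ⟨j, hj⟩ : ∃ j, i * j % p = 1 := by
      obtain ⟨j, -, hj⟩ := Nat.exists_mul_mod_eq_one_of_coprime ((hp.coprime_iff_not_dvd.2 hd).symm) hp.one_lt
      exact ⟨j, hj⟩
    have h1 : ∀ j : ℕ, (x ^ i) ^ j • a = a := fun j => by
      induction j with
      | zero => rw [pow_zero, one_smul]
      | succ j ih => rw [pow_succ, mul_smul, hi, ih]
    have h2 := h1 j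
    rw [← pow_mul, ← Nat.div_add_mod (i * j) p, pow_add, pow_mul, hx, one_pow, one_mul, hj, pow_one] at h2
    exact h2
  set S := {a : Ω | x • a ≠ a} with hSdef
  have hstab : ∀ (y : Q), Commute y x → ∀ b ∈ S, y • b ∈ S := fun y hy b hb h => by
    refine hb (MulAction.injective y ?_)
    show y • x • b = y • b
    rw [← mul_smul, hy.eq, mul_smul, h]
  let f : Fin p → S := fun i => ⟨x ^ (i : ℕ) • a, hstab _ (Commute.pow_self x i) a ha⟩
  have hf : Function.Injective f := by
    have key : ∀ i j : Fin p, (i : ℕ) ≤ j → x ^ (i : ℕ) • a = x ^ (j : ℕ) • a → i = j := by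
      intro i j hij h
      have h1 : x ^ ((j : ℕ) - i) • a = a := by
        apply MulAction.injective (x ^ (i : ℕ))
        show x ^ (i : ℕ) • x ^ ((j : ℕ) - i) • a = x ^ (i : ℕ) • a
        rw [← mul_smul, ← pow_add, Nat.add_sub_cancel' hij, h]
      have := hinj _ h1
      have h2 := Nat.eq_zero_of_dvd_of_lt this (by omega)
      exact Fin.ext (by omega)
    intro i j h
    have h' := congrArg Subtype.val h
    rcases le_total (i : ℕ) j with hij | hij
    · exact key i j hij h'
    · exact (key j i hij h'.symm).symm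
  obtain ⟨i, hi⟩ := ((Nat.bijective_iff_injective_and_card f).2 ⟨hf, by rw [Nat.card_fin, hS]⟩).2
    ⟨k • a, hstab k hc a ha⟩
  have hi' : x ^ (i : ℕ) • a = k • a := congrArg Subtype.val hi
  have hpow : ∀ m : ℕ, k ^ m • a = x ^ ((i : ℕ) * m) • a := fun m => by
    induction m with
    | zero => simp
    | succ m ih =>
      rw [pow_succ, mul_smul, ← hi', ← mul_smul, ((hc.pow_left m).pow_right (i : ℕ)).eq, mul_smul, ih,
        ← mul_smul, ← pow_add]
      congr 2
      ring
  have h3 : p ∣ (i : ℕ) * orderOf k := hinj _ (by rw [← hpow, pow_orderOf_eq_one, one_smul])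
  have h4 := Nat.eq_zero_of_dvd_of_lt ((hp.dvd_mul.1 h3).resolve_right hk) i.2
  rw [h4, pow_zero, one_smul] at hi'
  exact hi'.symm

/-- Elements of order prime to `p` centralizing `x` centralize a simple normal subgroup on whose
Sylow `ℓ`-subgroups `x` moves exactly `p` members and fixes at most one. -/
theorem centralizes_of_regular (M : Subgroup Q) [M.Normal] [IsSimpleGroup M] {ℓ : ℕ} [Fact ℓ.Prime]
    {x k : Q} (hx : x ^ p = 1) (hk : ¬ p ∣ orderOf k) (hc : Commute k x)
    (hone : 1 < Nat.card (Sylow ℓ M))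
    (hS : Nat.card {T : Sylow ℓ M | (MulAut.conjNormal x : MulAut M) • T ≠ T} = p)
    (hfix : ∀ T T' : Sylow ℓ M, (MulAut.conjNormal x : MulAut M) • T = T → (MulAut.conjNormal x : MulAut M) • T' = T' → T = T') :
    ∀ m ∈ M, k * m = m * k := by
  classical
  have hall : ∀ T : Sylow ℓ M, (MulAut.conjNormal k : MulAut M) • T = T := by
    intro T
    by_cases hT : (MulAut.conjNormal x : MulAut M) • T = T
    · refine hfix _ _ ?_ hT
      rw [← mul_smul, ← map_mul, ← hc.eq, map_mul, mul_smul, hT]
    · letI : MulAction Q (Sylow ℓ M) := MulAction.compHom _ (MulAut.conjNormal : Q →* MulAut M)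
      exact fix_of_regular (Ω := Sylow ℓ M) hx hk hc hS hT
  let f : M →* Equiv.Perm (Sylow ℓ M) := MulAction.toPermHom M (Sylow ℓ M)
  have hker : f.ker = ⊥ := (f.normal_ker.eq_bot_or_eq_top).resolve_right fun htop => by
    haveI := Finite.one_lt_card_iff_nontrivial.1 hone
    obtain ⟨T, T', hne⟩ := exists_pair_ne (Sylow ℓ M)
    obtain ⟨m, hm⟩ := MulAction.exists_smul_eq M T T'
    refine hne ?_
    have : f m = 1 := MonoidHom.mem_ker.1 (by rw [htop]; trivial)
    rw [← hm]
    exact (Equiv.Perm.ext_iff.1 this T).symm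
  intro m hm
  have hcm : k * m * k⁻¹ * m⁻¹ ∈ M :=
    mul_mem (Subgroup.Normal.conj_mem inferInstance m hm k) (inv_mem hm)
  have h1 : (⟨k * m * k⁻¹ * m⁻¹, hcm⟩ : M) = 1 := by
    have hk1 : ∀ T : Sylow ℓ M, (MulAut.conjNormal k⁻¹ : MulAut M) • T = T := fun T => by
      rw [map_inv]
      exact inv_smul_eq_iff.2 (hall T).symm
    have hmem : (⟨k * m * k⁻¹ * m⁻¹, hcm⟩ : M) ∈ f.ker := by
      rw [MonoidHom.mem_ker]
      refine Equiv.Perm.ext fun T => ?_
      show (⟨k * m * k⁻¹ * m⁻¹, hcm⟩ : M) • T = T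
      rw [Sylow.smul_def, ← MulAut.conjNormal_val]
      show (MulAut.conjNormal (k * m * k⁻¹ * m⁻¹) : MulAut M) • T = T
      rw [map_mul, map_mul, map_mul, mul_smul, mul_smul, mul_smul, hk1, map_inv, smul_inv_smul, hall]
    rwa [hker, mem_bot] at hmem
  have h2 : k * m * k⁻¹ * m⁻¹ = 1 := congrArg Subtype.val h1
  rw [mul_inv_eq_one, mul_inv_eq_iff_eq_mul] at h2
  exact h2

/-- The simple subgroup generated by the elements of order `p`, and the quotient by it. -/
theorem isSimpleGroup_and_recognize (hperf : commutator Q = ⊤) (hcore : Cfsg.pPrimeCore p Q = ⊥)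
    (P : Sylow p Q) (hP : Nat.card (P : Subgroup Q) = p) {r : ℕ}
    (hdvd : Nat.card (Sylow p Q) ∣ 1 + r * p) (h3 : ¬ Third p r) :
    (∃ (F : Type) (_ : Field F) (_ : Fintype F), Fintype.card F = p ∧ 3 < p ∧
      Nonempty (Q ≃* Matrix.ProjectiveSpecialLinearGroup (Fin 2) F)) ∨
    (∃ (m : ℕ) (F : Type) (_ : Field F) (_ : Fintype F), Fintype.card F = 2 ^ m ∧ p = 2 ^ m + 1 ∧ 3 < p ∧
      Nonempty (Q ≃* Matrix.SpecialLinearGroup (Fin 2) F)) := by
  classical
  have hp : p.Prime := Fact.out
  haveI : IsCyclic (P : Subgroup Q) := isCyclic_of_prime_card hP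
  haveI : Nontrivial (P : Subgroup Q) :=
    Finite.one_lt_card_iff_nontrivial.1 (by rw [hP]; exact hp.one_lt)
  -- `P` is not normal
  have hnn : ¬ (P : Subgroup Q).Normal := by
    intro hn
    have h1 : commutator Q ≤ centralizer ((P : Subgroup Q) : Set Q) := by
      rw [commutator_def, commutator_le]
      intro a _ b _
      exact commutator_mem_centralizer P hP (by rw [normalizer_eq_top_iff.2 hn]; trivial)
        (by rw [normalizer_eq_top_iff.2 hn]; trivial)
    rw [hperf] at h1
    exact not_normalizer_le_centralizer hperf P hP fun y _ => h1 (mem_top y)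
  set M := Subgroup.normalClosure ((P : Subgroup Q) : Set Q) with hM
  haveI hMn : M.Normal := Subgroup.normalClosure_normal
  have hPM : (P : Subgroup Q) ≤ M := Subgroup.subset_normalClosure
  have hall : ∀ R : Sylow p Q, (R : Subgroup Q) ≤ M := fun R => by
    obtain ⟨g, rfl⟩ := MulAction.exists_smul_eq Q P R
    rw [Sylow.coe_subgroup_smul]
    rintro _ ⟨z, hz, rfl⟩
    exact hMn.conj_mem z (hPM hz) g
  set PM : Sylow p M := P.subtype hPM with hPMdef
  have hPMc : Nat.card (PM : Subgroup M) = p := by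
    rw [hPMdef, Sylow.coe_subtype, Nat.card_congr (subgroupOfEquivOfLe hPM).toEquiv, hP]
  haveI : Nontrivial M := (Subgroup.nontrivial_iff_ne_bot M).2 fun h => by
    have := card_dvd_of_le hPM
    rw [h, hP, card_bot] at this
    exact hp.ne_one (Nat.dvd_one.1 this)
  haveI hsimple : IsSimpleGroup M := ⟨fun L hL => by
    by_cases hpL : p ∣ Nat.card L
    · right
      obtain ⟨⟨l, hl⟩, hlo⟩ := exists_prime_orderOf_dvd_card' (G := L) p hpL
      rw [orderOf_mk] at hlo
      obtain ⟨R, hR⟩ := (IsPGroup.of_card (p := p) (n := 1) (by rw [Nat.card_zpowers, hlo, pow_one]) :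
        IsPGroup p (zpowers l)).exists_le_sylow
      have hRc : Nat.card (R : Subgroup M) = p := by
        rw [R.card_eq_multiplicity, ← PM.card_eq_multiplicity, hPMc]
      have hRL : (R : Subgroup M) ≤ L := by
        rw [← eq_of_le_of_card_ge hR (by rw [Nat.card_zpowers, hlo, hRc])]
        exact zpowers_le.2 hl
      have hSL : ∀ S : Sylow p M, (S : Subgroup M) ≤ L := fun S => by
        obtain ⟨a, rfl⟩ := MulAction.exists_smul_eq M R S
        rw [Sylow.coe_subgroup_smul]
        rintro _ ⟨z, hz, rfl⟩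
        exact hL.conj_mem z (hRL hz) a
      have hle : M ≤ L.map M.subtype := by
        refine (Subgroup.closure_le _).2 fun y hy => ?_
        obtain ⟨z, hz, hzy⟩ := Group.mem_conjugatesOfSet_iff.1 hy
        obtain ⟨g, rfl⟩ := isConj_iff.1 hzy
        have hmem : g * z * g⁻¹ ∈ ((g • P : Sylow p Q) : Subgroup Q) := by
          rw [Sylow.coe_subgroup_smul]
          exact ⟨z, hz, rfl⟩
        exact ⟨⟨_, hall (g • P) hmem⟩, hSL ((g • P).subtype (hall _)) (by
          show (⟨_, hall (g • P) hmem⟩ : M) ∈ (((g • P).subtype (hall _) : Sylow p M) : Subgroup M)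
          rw [Sylow.coe_subtype]; exact hmem), rfl⟩
      rw [eq_top_iff]
      intro m _
      obtain ⟨m', hm', e⟩ := hle m.2
      rwa [← Subtype.ext e]
    · left
      haveI := hL
      have h1 : L ≤ Cfsg.pPrimeCore p M :=
        Cores.le_pPrimeCore ((hp.coprime_iff_not_dvd.2 hpL).symm)
      have h2 := (Subgroup.map_mono (f := M.subtype) h1).trans (Cores.map_pPrimeCore_subtype_le p M)
      rw [hcore, le_bot_iff] at h2
      exact (Subgroup.map_eq_bot_iff_of_injective _ M.subtype_injective).1 h2⟩
  have hMG : ¬ IsMulCommutative M := by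
    intro h
    refine hnn ?_
    haveI : (PM : Subgroup M).Normal := ⟨fun z hz g => by
      rwa [h.is_comm.comm g z, mul_assoc, mul_inv_cancel, mul_one]⟩
    have htop : (PM : Subgroup M) = ⊤ := (IsSimpleGroup.eq_bot_or_eq_top_of_normal _ inferInstance).resolve_left
      fun hb => by rw [hb, card_bot] at hPMc; exact hp.ne_one hPMc.symm
    have hMP : M = (P : Subgroup Q) := le_antisymm (fun y hy => by
      have : (⟨y, hy⟩ : M) ∈ (PM : Subgroup M) := by rw [htop]; trivial
      exact this) hPM
    exact hMP ▸ hMn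
  -- the Sylow subgroups of `M` and of `Q`
  have hcardS : Nat.card (Sylow p M) = Nat.card (Sylow p Q) := by
    refine (Nat.card_eq_of_bijective (fun R : Sylow p Q => R.subtype (hall R))
      ⟨fun R R' h => Sylow.subtype_injective h, fun S => ?_⟩).symm
    obtain ⟨m, rfl⟩ := MulAction.exists_smul_eq M PM S
    exact ⟨m • P, (Sylow.smul_subtype hPM m).symm⟩
  obtain ⟨hCM, hnM⟩ := sylow_and_centralizer hMG PM hPMc (r := r) (by rw [hcardS]; exact hdvd) h3
  have hpM : p ∣ Nat.card M := hPMc ▸ card_subgroup_dvd_card _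
  obtain ⟨⟨xp, hxpP⟩, hxp⟩ := exists_ne (1 : (P : Subgroup Q))
  set x : M := ⟨xp, hPM hxpP⟩ with hxdef
  have hx1 : x ≠ 1 := fun e => hxp (Subtype.ext (show xp = 1 from congrArg Subtype.val e))
  have hxPM : x ∈ (PM : Subgroup M) := hxpP
  have hxp' : xp ^ p = 1 := by
    have := pow_card_eq_one' (G := (P : Subgroup Q)) (x := ⟨xp, hxpP⟩)
    rw [hP] at this
    exact congrArg Subtype.val this
  have hxo : orderOf x = p := orderOf_eq_prime (Subtype.ext (by simpa using hxp')) hx1
  have hgenM : zpowers x = (PM : Subgroup M) :=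
    eq_of_le_of_card_ge (zpowers_le.2 hxPM) (by rw [Nat.card_zpowers, hxo, hPMc])
  have hsmx : ∀ (ℓ : ℕ) [Fact ℓ.Prime] (T : Sylow ℓ M),
      (MulAut.conjNormal xp : MulAut M) • T = x • T := fun ℓ _ T => by
    rw [Sylow.smul_def, ← MulAut.conjNormal_val]
  have hcases := cases_of_not_third hMG PM hPMc hCM hnM h3
  -- the centralizer of `P` is `P`
  have hcent : ∀ k : Q, ¬ p ∣ orderOf k → Commute k xp → ∀ m ∈ M, k * m = m * k := by
    intro k hk hc
    rcases hcases with ⟨hr1, -⟩ | ⟨⟨v, hv⟩, ⟨T, hT1, hT2, hT3⟩, hinv⟩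
    · have honly : ∀ S : Sylow p M, x • S = S → S = PM := by
        intro S hS
        have hSc : Nat.card (S : Subgroup M) = p := by
          rw [S.card_eq_multiplicity, ← PM.card_eq_multiplicity, hPMc]
        have hle : (PM : Subgroup M) ≤ normalizer ((S : Subgroup M) : Set M) := by
          rw [← hgenM]
          exact zpowers_le.2 (Sylow.smul_eq_iff_mem_normalizer.1 hS)
        have h2 : (PM : Subgroup M) ⊔ (S : Subgroup M) = (S : Subgroup M) :=
          S.3 (IsPGroup.to_sup_of_normal_right' PM.2 S.2 hle) le_sup_right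
        exact Sylow.ext (eq_of_le_of_card_ge (le_sup_left.trans h2.le) (by rw [hSc, hPMc])).symm
      refine centralizes_of_regular M (ℓ := p) hxp' hk hc (by rw [hnM, hr1]; have := hp.pos; omega) ?_
        fun S S' hS hS' => by rw [hsmx] at hS hS'; rw [honly S hS, honly S' hS']
      have hset : {S : Sylow p M | (MulAut.conjNormal xp : MulAut M) • S ≠ S} = ({PM} : Set (Sylow p M))ᶜ := by
        ext S
        simp only [Set.mem_ofPred_eq, Set.mem_compl_iff, Set.mem_singleton_iff, hsmx]
        constructor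
        · intro h e
          exact h (by rw [e]; exact Sylow.smul_eq_iff_mem_normalizer.2 (le_normalizer hxPM))
        · exact fun h e => h (honly S e)
      rw [hset, Nat.card_coe_set_eq, Set.ncard_compl, Set.ncard_singleton, hnM, hr1]
      omega
    · haveI : Fact (Nat.Prime 2) := ⟨Nat.prime_two⟩
      -- an involution outside the normalizer of `T`
      obtain ⟨u, hu, huN⟩ : ∃ u : M, orderOf u = 2 ∧ u ∉ normalizer ((T : Subgroup M) : Set M) := by
        by_contra hcon
        push Not at hcon
        refine hT2 ?_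
        have hsq : ∀ (R : Sylow 2 M) (y : M), y ∈ (R : Subgroup M) → y ^ 2 = 1 := by
          intro R y hy
          haveI : Nontrivial (R : Subgroup M) := by
            refine Finite.one_lt_card_iff_nontrivial.1 ?_
            rw [R.card_eq_multiplicity, ← T.card_eq_multiplicity]
            by_contra hh
            have := Nat.card_pos (α := (T : Subgroup M))
            haveI := (Nat.card_eq_one_iff_unique.1 (show Nat.card (T : Subgroup M) = 1 by omega)).1
            exact hT1 isCyclic_of_subsingleton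
          haveI := R.2.center_nontrivial
          obtain ⟨c, hc⟩ := exists_prime_orderOf_dvd_card' (G := center (R : Subgroup M)) 2 (by
            obtain ⟨j, hj⟩ := IsPGroup.iff_card.1 (R.2.to_subgroup (center (R : Subgroup M)))
            rw [hj]
            refine dvd_pow_self 2 fun e => ?_
            have := Finite.one_lt_card (α := center (R : Subgroup M))
            rw [hj, e, pow_zero] at this
            omega)
          have hco : orderOf ((c : (R : Subgroup M)) : M) = 2 := by
            rw [Subgroup.orderOf_coe, Subgroup.orderOf_coe]; exact hc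
          refine (hinv _ hco).2 y (mem_centralizer_singleton_iff.2 ?_)
          exact (congrArg Subtype.val (mem_center_iff.1 c.2 ⟨y, hy⟩))
        have huniq : ∀ R : Sylow 2 M, R = T := fun R => by
          refine Sylow.ext (eq_of_le_of_card_ge (fun y hy => ?_)
            (by rw [R.card_eq_multiplicity, ← T.card_eq_multiplicity])).symm.symm
          rcases eq_or_ne y 1 with rfl | hy1
          · exact one_mem _
          have hyo : orderOf y = 2 := orderOf_eq_prime (hsq R y hy) hy1
          have hyN := hcon y hyo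
          have hzp : IsPGroup 2 (zpowers y) := IsPGroup.of_card (n := 1) (by rw [Nat.card_zpowers, hyo, pow_one])
          have h2 : zpowers y ⊔ (T : Subgroup M) = (T : Subgroup M) :=
            T.3 (IsPGroup.to_sup_of_normal_right' hzp T.2 (zpowers_le.2 hyN)) le_sup_right
          exact h2 ▸ mem_sup_left (mem_zpowers y)
        rw [← normalizer_eq_top_iff, eq_top_iff]
        intro g _
        exact Sylow.smul_eq_iff_mem_normalizer.1 (huniq (g • T))
      obtain ⟨-, hNT, -⟩ := Cfsg.Agent.S1227.result T hT1 hT2 hinv u hu huN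
      obtain ⟨F, iF, iFt, hF, ⟨ψ⟩⟩ := Cfsg.Agent.S1230.result T hT1 hT2 hinv
      have hv0 : v ≠ 0 := by
        rintro rfl
        rw [pow_zero] at hv
        rw [hv] at hT3
        haveI := (Nat.card_eq_one_iff_unique.1 hT3).1
        exact hT1 isCyclic_of_subsingleton
      have hFv : Fintype.card F = 2 ^ v := by rw [hF, hT3, hv, Nat.add_sub_cancel]
      obtain ⟨e₁⟩ := sl_equiv_psl F hv0 hFv
      have hMc : Nat.card M = 2 ^ v * ((2 ^ v - 1) * (2 ^ v + 1)) := by
        rw [Nat.card_congr (ψ.trans e₁).toEquiv, Classical.GL2.natCard_SL_two, hFv]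
      rw [hT3, show p - 1 = 2 ^ v by omega] at hNT
      have h2v : 2 ≤ 2 ^ v := Nat.le_self_pow hv0 2
      have hn2 : Nat.card (Sylow 2 M) = p := by
        have h1 := Basic.card_normalizer_mul T
        rw [hNT, hMc, mul_assoc] at h1
        rw [hv]
        exact Nat.eq_of_mul_eq_mul_left (by omega : 0 < 2 ^ v - 1)
          (Nat.eq_of_mul_eq_mul_left (by omega : 0 < 2 ^ v) h1)
      have hnofix : ∀ R : Sylow 2 M, x • R ≠ R := by
        intro R hR
        have hd := orderOf_dvd_natCard (⟨x, Sylow.smul_eq_iff_mem_normalizer.1 hR⟩ :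
          normalizer ((R : Subgroup M) : Set M))
        rw [orderOf_mk, hxo] at hd
        have hNR : Nat.card (normalizer ((R : Subgroup M) : Set M)) = 2 ^ v * (2 ^ v - 1) := by
          refine Nat.eq_of_mul_eq_mul_right (Nat.card_pos (α := Sylow 2 M)) ?_
          rw [Basic.card_normalizer_mul R, ← Basic.card_normalizer_mul T, hNT]
        rw [hNR] at hd
        rcases hp.dvd_mul.1 hd with h | h <;> have := Nat.le_of_dvd (by omega) h <;> omega
      refine centralizes_of_regular M (ℓ := 2) hxp' hk hc (by rw [hn2]; exact hp.one_lt) ?_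
        fun R R' hR _ => absurd (by rwa [hsmx] at hR) (hnofix R)
      have hset : {R : Sylow 2 M | (MulAut.conjNormal xp : MulAut M) • R ≠ R} = Set.univ :=
        Set.eq_univ_of_forall fun R => by
          rw [Set.mem_ofPred_eq, hsmx]
          exact hnofix R
      rw [hset, Nat.card_univ, hn2]
  have hCQ : centralizer ((M : Subgroup Q) : Set Q) = ⊥ := by
    haveI : (centralizer ((M : Subgroup Q) : Set Q)).Normal := inferInstance
    refine (le_bot_iff.1 (hcore ▸ Cores.le_pPrimeCore ((hp.coprime_iff_not_dvd.2 fun hd => ?_).symm)))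
    obtain ⟨⟨l, hl⟩, hlo⟩ := exists_prime_orderOf_dvd_card' (G := centralizer ((M : Subgroup Q) : Set Q)) p hd
    rw [orderOf_mk] at hlo
    obtain ⟨R, hR⟩ := (IsPGroup.of_card (p := p) (n := 1) (by rw [Nat.card_zpowers, hlo, pow_one]) :
      IsPGroup p (zpowers l)).exists_le_sylow
    have hlM : l ∈ M := hall R (hR (mem_zpowers l))
    have hlc : (⟨l, hlM⟩ : M) ∈ center M := mem_center_iff.2 fun y => Subtype.ext (mem_centralizer_iff.1 hl y y.2)
    rcases (inferInstance : (center M).Normal).eq_bot_or_eq_top with hb | hb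
    · rw [hb, mem_bot] at hlc
      rw [show l = 1 from congrArg Subtype.val hlc, orderOf_one] at hlo
      exact hp.ne_one hlo.symm
    · exact hMG ⟨⟨fun a b => (mem_center_iff.1 (hb ▸ mem_top b) a)⟩⟩
  have hgen : zpowers xp = (P : Subgroup Q) := by
    refine eq_of_le_of_card_ge (zpowers_le.2 hxpP) ?_
    rw [Nat.card_zpowers, orderOf_eq_prime hxp' fun e => hxp (Subtype.ext e), hP]
  have hC : centralizer ((P : Subgroup Q) : Set Q) ≤ (P : Subgroup Q) := by
    have hpC : IsPGroup p (centralizer ((P : Subgroup Q) : Set Q)) := fun c => by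
      obtain ⟨a, m, hm, ham⟩ := Nat.exists_eq_pow_mul_and_not_dvd (orderOf_pos (c : Q)).ne' p hp.ne_one
      refine ⟨a, Subtype.ext ?_⟩
      have hk : ¬ p ∣ orderOf ((c : Q) ^ p ^ a) := by
        rw [orderOf_pow_of_dvd (pow_pos hp.pos a).ne' (ham ▸ dvd_mul_right _ _), ham,
          Nat.mul_div_cancel_left _ (pow_pos hp.pos a)]
        exact hm
      have h1 : (c : Q) ^ p ^ a ∈ centralizer ((M : Subgroup Q) : Set Q) := mem_centralizer_iff.2 fun y hy =>
        (hcent _ hk (mem_centralizer_iff.1 (pow_mem c.2 _) xp hxpP).symm y hy).symm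
      rw [hCQ, mem_bot] at h1
      simpa using h1
    exact (P.is_maximal' hpC (le_centralizer _)).le
  have htop : M = ⊤ := by
    refine top_le_iff.1 (hperf ▸ commutator_le_of_sup M (normalizer ((P : Subgroup Q) : Set Q)) ?_
      fun a ha b hb => hPM (hC (commutator_mem_centralizer P hP ha hb)))
    rw [sup_comm]
    exact Sylow.normalizer_sup_eq_top' P hPM
  have eQ : Q ≃* M := (Subgroup.topEquiv.symm.trans (MulEquiv.subgroupCongr htop.symm))
  rcases brauer hMG PM hPMc hCM hnM h3 with ⟨F, iF, iFt, hF, h3p, ⟨ψ⟩⟩ | ⟨m, F, iF, iFt, hF, hpm, h3p, ⟨ψ⟩⟩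
  · exact Or.inl ⟨F, iF, iFt, hF, h3p, ⟨eQ.trans ψ⟩⟩
  · have hm : m ≠ 0 := by
      rintro rfl
      rw [pow_zero] at hpm
      omega
    obtain ⟨e₁⟩ := sl_equiv_psl F hm hF
    exact Or.inr ⟨m, F, iF, iFt, hF, hpm, h3p, ⟨(eQ.trans ψ).trans e₁⟩⟩

end Cfsg.Agent.PrimeBlock.Artin
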