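import Cfsg.Agent.Lib.PrimeBlock.Brauer.Main
import Cfsg.Agent.Lib.PrimeBlock.ThreePrimes

/-!
# Brauer's theorem without assuming that the Sylow subgroup is its own centralizer
-/

set_option autoImplicit false
set_option linter.style.haveILetI false
set_option linter.unusedSectionVars false

namespace Cfsg.Agent.PrimeBlock.Artin

open Cfsg.Agent.Characters Cfsg.Agent.Blocks Subgroup
open Cfsg.Agent.SmallSimple Cfsg.Agent.PrimeBlock.Brauer

universe u

variable {G : Type u} [Group G] [Finite G] {p : ℕ} [Fact p.Prime] {P : Sylow p G} (D : PBlock P)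

include D in
theorem index_centralizer {x : G} (hx : x ∈ (P : Subgroup G)) (hx1 : x ≠ 1) :
    (centralizer ({x} : Set G)).index = D.e * Nat.card (Sylow p G) := by
  rw [D.centralizer_eq hx hx1]
  set C := centralizer ((P : Subgroup G) : Set G) with hC
  set N := normalizer ((P : Subgroup G) : Set G) with hN
  have h1 := relIndex_mul_index (H := C) (K := N) (centralizer_le_normalizer _)
  rw [D.he] at h1
  rw [P.card_eq_index_normalizer]
  exact h1.symm

include D in
/-- Degrees in the block divide `e n`. -/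
theorem deg_dvd {χ : Cfsg.IrrCharacter G} (hχ : χ ∈ Cfsg.principalBlock D.M G) :
    deg χ ∣ D.e * Nat.card (Sylow p G) := by
  classical
  obtain ⟨x, hx1, hx⟩ := D.exists_ne_one
  rw [← index_centralizer D hx hx1]
  have hcc : ∀ ψ : Cfsg.IrrCharacter G, ((centralizer ({x} : Set G)).index : ℂ) * (ψ : G → ℂ) x =
      (deg ψ : ℂ) * Cfsg.centralChar (ψ : G → ℂ) x := fun ψ => by
    rw [Cfsg.centralChar, ← deg_cast, mul_div_cancel₀]
    exact Nat.cast_ne_zero.2 (charDegree_pos ψ).ne'
  rcases (D.mem_block χ).1 hχ with h | h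
  · refine BlocksChars.Degrees.dvd_of_natCast_eq_mul
      ((isIntegral_intCast (D.sgn χ)).mul (centralChar_isIntegral χ x)) ?_
    have h1 := hcc χ
    rw [D.val_X' h hx hx1] at h1
    rw [mul_left_comm, ← h1, mul_left_comm, ← Int.cast_mul]
    rcases D.sgn_eq χ h with e | e <;> rw [e] <;> simp
  · refine BlocksChars.Degrees.dvd_of_natCast_eq_mul
      ((isIntegral_intCast (-D.ε)).mul (IsIntegral.sum (s := D.Y) (fun θ : Cfsg.IrrCharacter G => Cfsg.centralChar (θ : G → ℂ) x) fun θ _ => centralChar_isIntegral θ x)) ?_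
    have h1 : ((centralizer ({x} : Set G)).index : ℂ) * -(D.ε : ℂ) =
        (deg χ : ℂ) * ∑ θ ∈ D.Y, Cfsg.centralChar (θ : G → ℂ) x := by
      rw [← D.sum_Y hx hx1, Finset.mul_sum, Finset.mul_sum]
      exact Finset.sum_congr rfl fun θ hθ => by rw [hcc θ, D.deg_Y_eq hθ h]
    rw [mul_left_comm, ← h1, mul_left_comm]
    push_cast
    rcases D.ε_eq with e | e <;> rw [e] <;> simp

set_option maxHeartbeats 1000000 in
/-- The count of Sylow subgroups and the centralizer, from the exclusion of the third alternative. -/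
theorem sylow_and_centralizer [IsSimpleGroup G] (hG : ¬ IsMulCommutative G) (P : Sylow p G)
    (hP : Nat.card (P : Subgroup G) = p) {r : ℕ}
    (hdvd : Nat.card (Sylow p G) ∣ 1 + r * p) (h3 : ¬ Third p r) :
    Nat.card (centralizer ((P : Subgroup G) : Set G)) = p ∧ Nat.card (Sylow p G) = 1 + r * p := by
  classical
  have hp : p.Prime := Fact.out
  obtain ⟨e, hed, he1, hNe, -⟩ := Centralize.centralizer_data hG P hP
  have hp2 : p ≠ 2 := by
    rintro rfl
    have := Nat.le_of_dvd (by norm_num) hed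
    omega
  obtain ⟨D, ht, hts⟩ := exists_pblock' hG hp2 P hP
  have heD : D.e = e := by
    have := relIndex_mul_relIndex ⊥ (centralizer ((P : Subgroup G) : Set G))
      (normalizer ((P : Subgroup G) : Set G)) bot_le (centralizer_le_normalizer _)
    rw [relIndex_bot_left, relIndex_bot_left, D.he, hNe] at this
    exact Nat.eq_of_mul_eq_mul_left Nat.card_pos this
  subst heD
  set n := Nat.card (Sylow p G) with hn
  set N := 1 + r * p with hN
  have hn1 : 1 < n := Basic.one_lt_card_sylow (p := p) hG (D.card_P ▸ card_subgroup_dvd_card _)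
  have hnN : n ≤ N := Nat.le_of_dvd (by positivity) hdvd
  have hr : 0 < r := Nat.pos_of_ne_zero fun e0 => by rw [hN, e0, zero_mul, add_zero] at hnN; omega
  obtain ⟨h, hh⟩ := D.e_dvd
  have hpp : p = h * D.e + 1 := by rw [mul_comm h]; have := hp.one_lt; omega
  have hh0 : 0 < h := Nat.pos_of_ne_zero fun e0 => by subst e0; have := hp.one_lt; omega
  have hpZ : (p : ℤ) = (h : ℤ) * D.e + 1 := by exact_mod_cast hpp
  have hhZ : (0 : ℤ) < h := by exact_mod_cast hh0
  have heZ : (0 : ℤ) < D.e := by exact_mod_cast D.e_pos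
  have heltZ : (D.e : ℤ) < p := by exact_mod_cast D.e_lt
  have hpZ0 : (0 : ℤ) < p := by exact_mod_cast hp.pos
  have hthird : ∀ m u : ℤ, 0 < m → 0 < u →
      (r : ℤ) * (u + 1) = m * u * p + u ^ 2 + u + m → False :=
    fun m u hm hu he => h3 (third_of_int hm hu he)
  have hcof : ∀ χ ∈ Cfsg.principalBlock D.M G, ∀ c : ℤ, (p : ℤ) ∣ c - deg χ →
      ∃ v : ℤ, 0 < v ∧ (deg χ : ℤ) * v = (1 + r * p) * D.e ∧ (p : ℤ) ∣ D.e - c * v := by
    intro χ hχ c hd
    obtain ⟨v, hv⟩ := (deg_dvd D hχ).trans (Nat.mul_dvd_mul_left D.e hdvd)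
    have hv' : (deg χ : ℤ) * v = (1 + r * p) * D.e := by
      have : ((D.e * N : ℕ) : ℤ) = ((deg χ * v : ℕ) : ℤ) := by rw [hv]
      rw [hN] at this
      push_cast at this; linear_combination -this
    obtain ⟨j, hj⟩ := hd
    refine ⟨v, Int.natCast_pos.2 (Nat.pos_of_ne_zero fun e0 => ?_), hv',
      ⟨-(r : ℤ) * D.e - j * v, by linear_combination -hv' - (v : ℤ) * hj⟩⟩
    rw [e0, mul_zero] at hv
    have := Nat.mul_pos D.e_pos (show 0 < N by positivity)
    omega
  -- the degrees in `X`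
  have hX : ∀ χ ∈ D.X, χ ≠ trivIrr G → (D.sgn χ = 1 ∧ deg χ = N) ∨
      (D.sgn χ = -1 ∧ deg χ + 1 = p) ∨ (D.sgn χ = -1 ∧ deg χ = D.e * N ∧ D.e + 1 = p) := by
    intro χ hχ hne
    have hB := (D.mem_block χ).2 (Or.inl hχ)
    have hd1 : deg χ ≠ 1 := deg_ne_one hG hne
    have h0 : 0 < deg χ := charDegree_pos χ
    obtain ⟨u, hu⟩ : (p : ℤ) ∣ (deg χ : ℤ) - D.sgn χ := Int.ModEq.dvd (D.deg_X χ hχ).symm
    rcases D.sgn_eq χ hχ with hs | hs <;> rw [hs] at hu
    · left
      refine ⟨hs, ?_⟩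
      obtain ⟨v, hv0, hv, w, hw⟩ := hcof χ hB 1 ⟨-u, by linear_combination -hu⟩
      have hu0 : 0 < u := pos_of_mul_pos_right (show 0 < (p : ℤ) * u by omega) hpZ0.le
      have hw0 : w ≤ 0 := by
        by_contra hh'
        push Not at hh'
        have := mul_le_mul_of_nonneg_left (show (1 : ℤ) ≤ w by omega) hpZ0.le
        omega
      rcases plus_case hpZ hhZ heZ (u := u) (t := -w) (r := r) hu0.le (by omega)
          (by linear_combination hv - v * hu + (u * p + 1) * hw) with h' | h' | ⟨m, hm, heq⟩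
      · omega
      · have hw' : w = 0 := by omega
        have : ((deg χ : ℕ) : ℤ) = ((N : ℕ) : ℤ) := by
          refine mul_right_cancel₀ heZ.ne' ?_
          rw [hw', mul_zero] at hw
          rw [hN]
          push_cast
          linear_combination hv + (deg χ : ℤ) * hw
        exact_mod_cast this
      · exact (hthird m u hm hu0 heq).elim
    · obtain ⟨v, hv0, hv, w, hw⟩ := hcof χ hB (-1) ⟨-u, by linear_combination -hu⟩
      have hu0 : 0 < u := by nlinarith
      have hw0 : 0 < w := by nlinarith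
      rcases minus_case hpZ hhZ heZ (u := u) (t := w) (r := r) hu0 hw0
          (by linear_combination hv - v * hu - (u * p - 1) * hw) with ⟨h1, -⟩ | ⟨m, u', hm, hu', heq⟩ | h'
      · exact Or.inr (Or.inl ⟨hs, by subst h1; omega⟩)
      · exact (hthird m u' hm hu' heq).elim
      · have hw1 : w = 1 := by
          by_contra hne'
          have := mul_le_mul_of_nonneg_right (show (2 : ℤ) ≤ w by omega) hpZ0.le
          linarith
        rw [hw1] at h' hw
        have hv1 : v = 1 := by linarith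
        rw [hv1, mul_one] at hv
        refine Or.inr (Or.inr ⟨hs, ?_, by omega⟩)
        have : ((deg χ : ℕ) : ℤ) = ((D.e * N : ℕ) : ℤ) := by rw [hN]; push_cast; linear_combination hv
        exact_mod_cast this
  obtain ⟨θ, hθ⟩ := D.Y_nonempty
  have hθne : θ ≠ trivIrr G := fun e => Finset.disjoint_left.1 D.disj ht (e ▸ hθ)
  have hθB := (D.mem_block θ).2 (Or.inr hθ)
  have hθ1 := deg_ne_one hG hθne
  have hθ0 : 0 < deg θ := charDegree_pos θ
  have hrel : (D.ε : ℤ) * deg θ = 1 + ∑ χ ∈ D.X.erase (trivIrr G), D.sgn χ * (deg χ : ℤ) := by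
    rw [D.rel_one hθ, ← Finset.add_sum_erase _ _ ht, hts, deg_trivIrr]
    simp
  -- `P` is its own centralizer
  have hC : Nat.card (centralizer ((P : Subgroup G) : Set G)) = p := by
    by_cases hm : ∃ χ ∈ D.X, χ ≠ trivIrr G ∧ deg χ + 1 = p
    · obtain ⟨χ, hχ, hne, hd⟩ := hm
      exact D.card_centralizer hG ((D.mem_block χ).2 (Or.inl hχ)) hne (by omega)
    push Not at hm
    refine D.card_centralizer hG hθB hθne ?_
    have hdiv : (N : ℤ) ∣ ∑ χ ∈ D.X.erase (trivIrr G), D.sgn χ * (deg χ : ℤ) :=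
      Finset.dvd_sum fun χ hχ => by
        obtain ⟨hne, hχX⟩ := Finset.mem_erase.1 hχ
        rcases hX χ hχX hne with ⟨-, hd⟩ | ⟨-, hd⟩ | ⟨-, hd, -⟩
        · rw [hd]; exact dvd_mul_left _ _
        · exact absurd hd (hm χ hχX hne)
        · rw [hd]; push_cast; exact dvd_mul_of_dvd_right (dvd_mul_left _ _) _
    have hcop : (deg θ).Coprime N := by
      refine Nat.coprime_of_dvd' fun k hk hkf hkN => ?_
      have h1 : (k : ℤ) ∣ (D.ε : ℤ) * deg θ := dvd_mul_of_dvd_right (Int.natCast_dvd_natCast.2 hkf) _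
      have h2 := (Int.natCast_dvd_natCast.2 hkN).trans hdiv
      rw [hrel] at h1
      have h3 := (Int.dvd_add_left h2).1 h1
      exact Int.natCast_dvd_natCast.1 (by exact_mod_cast h3)
    have := hcop.dvd_of_dvd_mul_right ((deg_dvd D hθB).trans (Nat.mul_dvd_mul_left D.e hdvd))
    exact lt_of_le_of_lt (Nat.le_of_dvd D.e_pos this) D.e_lt
  refine ⟨hC, ?_⟩
  have hcard : Nat.card G = p * D.e * n := card_group D hC
  obtain ⟨c, hc⟩ := (Nat.modEq_iff_dvd' Nat.card_pos).1 (card_sylow_modEq_one p G).symm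
  have hc' : n = 1 + p * c := by omega
  obtain ⟨j, hj⟩ := hdvd
  have hj1 : ∃ i, j = 1 + p * i := by
    have h1 : p ∣ j - 1 := by
      refine (Nat.modEq_iff_dvd' (Nat.pos_of_ne_zero fun e0 => by rw [e0, mul_zero] at hj; omega)).1 ?_
      have hz1 : (1 + r * p) % p = 1 % p := Nat.add_mul_mod_self_right 1 r p
      have hz : (n * j) % p = j % p := by
        rw [Nat.mul_mod, show n % p = 1 % p by rw [hc', Nat.add_mul_mod_self_left], ← Nat.mul_mod, one_mul]
      show 1 % p = j % p
      rw [← hz, ← hj, hN, hz1]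
    obtain ⟨i, hi⟩ := h1
    exact ⟨i, by have : 0 < j := Nat.pos_of_ne_zero fun e0 => by rw [e0, mul_zero] at hj; omega
                 omega⟩
  obtain ⟨i, rfl⟩ := hj1
  suffices i = 0 by subst this; rw [hj]; ring
  by_contra hi
  have hj' : p + 1 ≤ 1 + p * i := by
    have := Nat.le_mul_of_pos_right p (Nat.pos_of_ne_zero hi); omega
  have hnp : p + 1 ≤ n := by
    have hc0 : 0 < c := Nat.pos_of_ne_zero fun e0 => by rw [e0, mul_zero] at hc'; omega
    have := Nat.le_mul_of_pos_right p hc0; omega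
  have hXm : ∀ χ ∈ D.X.erase (trivIrr G), D.sgn χ * (deg χ : ℤ) = -((p : ℤ) - 1) := by
    intro χ hχ
    obtain ⟨hne, hχX⟩ := Finset.mem_erase.1 hχ
    rcases hX χ hχX hne with ⟨-, hd⟩ | ⟨hs, hd⟩ | ⟨-, hd, hep⟩
    · exfalso
      have h1 := Nat.le_of_dvd (Nat.mul_pos D.e_pos (by omega))
        (deg_dvd D ((D.mem_block χ).2 (Or.inl hχX)))
      rw [hd, hj] at h1
      have h2 := Nat.mul_le_mul_left n hj'
      have h4 : n * (p + 1) ≤ n * D.e := by linarith
      have := Nat.le_of_mul_le_mul_left h4 (by omega)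
      have := D.e_lt
      omega
    · rw [hs]; omega
    · exfalso
      have h1 := Nat.le_of_dvd (Nat.mul_pos D.e_pos (by omega))
        (deg_dvd D ((D.mem_block χ).2 (Or.inl hχX)))
      rw [hd, hj] at h1
      have h2 := Nat.le_of_mul_le_mul_left h1 D.e_pos
      have h5 : n * 1 < n * (1 + p * i) := Nat.mul_lt_mul_of_pos_left (by omega) (by omega)
      omega
  rw [Finset.sum_congr rfl hXm, Finset.sum_const, Finset.card_erase_of_mem ht, D.card_X, nsmul_eq_mul,
    Nat.cast_sub D.e_pos] at hrel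
  push_cast at hrel
  have he2 : (2 : ℤ) ≤ D.e := by exact_mod_cast he1
  have hp3 : (3 : ℤ) ≤ p := by have := D.two_lt; omega
  have hneg : (D.ε : ℤ) * deg θ < 0 := by
    rw [hrel]
    have := mul_le_mul (show (1 : ℤ) ≤ (D.e : ℤ) - 1 by omega) (show (2 : ℤ) ≤ (p : ℤ) - 1 by omega)
      (by norm_num) (by omega)
    linarith
  have hεm : D.ε = -1 := by
    rcases D.ε_eq with e | e
    · rw [e] at hneg; omega
    · exact e
  rw [hεm] at hrel
  obtain ⟨v, hv0, hv, w, hw⟩ := hcof θ hθB (-D.e) ⟨-((D.e : ℤ) - 1), by linear_combination hrel⟩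
  obtain ⟨t, hvt⟩ : (p : ℤ) ∣ v + 1 :=
    ((Nat.prime_iff_prime_int.1 hp).dvd_or_dvd ⟨w, by linear_combination hw⟩).resolve_left fun hd =>
      absurd (Int.le_of_dvd heZ hd) (by omega)
  have ht0 : 0 < t := by nlinarith
  rcases minus_case hpZ hhZ heZ (u := t) (t := (D.e : ℤ) - 1) (r := r) ht0 (by omega)
      (by linear_combination hv + v * hrel - (((D.e : ℤ) - 1) * p - D.e) * hvt) with
    ⟨-, h2⟩ | ⟨m, u', hm, hu', heq⟩ | h'
  · -- `N` is too small to have a proper divisor
    have h5 : (r : ℤ) * D.e + D.e = ((D.e : ℤ) - 1) * ((p : ℤ) - 1) := by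
      linear_combination (D.e : ℤ) * h2 - ((D.e : ℤ) - 1) * hpZ
    have h6 : (r : ℤ) < p := by nlinarith
    have h7 := Nat.mul_le_mul hnp hj'
    rw [← hj, hN] at h7
    have h8 : ((p + 1) * (p + 1) : ℕ) ≤ 1 + r * p := h7
    have h9 : r * p ≤ p * p := Nat.mul_le_mul_right p (by omega)
    nlinarith
  · exact hthird m u' hm hu' heq
  · exact hθ1 (by
      have : (deg θ : ℤ) = 1 := by linear_combination h' - hrel
      exact_mod_cast this)

end Cfsg.Agent.PrimeBlock.Artin
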